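import Cfsg.Agent.SM.CSe.Spin
import Cfsg.Agent.SM.Ti.Hy
import Cfsg.Agent.SM.Ti.Q
import Cfsg.Agent.SM.CSc.Lin
import Cfsg.Agent.SM.CSBo.Main

/-!
# SM (S3570), box CS-Be: `Sp₈(q) < Ω₁₆⁺(q)`, `q` even (helper84)

`boxBe : BoxBe`.
-/

set_option autoImplicit false
set_option linter.unusedSectionVars false

namespace Cfsg.Agent.SM.CS

open Cfsg Cfsg.Geo Matrix Subgroup QuadraticMap Module
open Cfsg.Agent.H925 (qf nondeg_qf)
open Cfsg.Agent.H915.LD (toSoc toSoc_surjective ker_toSoc)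
open Cfsg.Agent.SM.Ti (ap ap_mul ap_one ap_inv_ap ap_ap_inv ap_smul ap_add ap_ne)

namespace Be

theorem prm_of_map {T T' : Type} [Group T] [Group T'] (e : T ≃* T') {A : Subgroup T} (h : Prm (A.map e.toMonoidHom)) : Prm A := by
  intro C hC hφ
  have key : ∀ (ψ : MulAut T') (D : Subgroup T), (D.map e.toMonoidHom).map ψ.toMonoidHom =
      (D.map ((e.trans ψ).trans e.symm).toMonoidHom).map e.toMonoidHom := fun ψ D => by
    rw [Subgroup.map_map, Subgroup.map_map]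
    congr 1
    ext t
    simp
  have hi : Function.Injective (Subgroup.map e.toMonoidHom) := map_injective e.injective
  refine (h (C.map e.toMonoidHom) (map_mono hC) fun ψ hψ => ?_).imp (fun h1 => hi h1) fun h1 => hi ?_
  · rw [key, hφ _ (hi (by rw [← key, hψ]))]
  · rw [h1, map_top_of_surjective _ e.surjective]

/-- **at most `2 q ^ (d - 1) - q ^ (d - 2)` vectors of norm `a`** -/
theorem cnt {K V : Type*} [Field K] [Finite K] [AddCommGroup V] [Module K V] [Finite V] (Q : QuadraticForm K V)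
    (U : Submodule K V) (a : K) {e w : V} (he : e ∈ U) (hQ : Q e = 0) (hw : w ∈ U) (hwe : polar Q w e ≠ 0) :
    {v | v ∈ U ∧ Q v = a}.ncard * Nat.card K ^ 2 + Nat.card K ^ finrank K U ≤ 2 * Nat.card K ^ finrank K U * Nat.card K := by
  have : Module.Finite K V := Module.Finite.of_finite
  let U' : Submodule K V := U ⊓ LinearMap.ker (Q.polarBilin.flip e)
  have hU' : ∀ v, v ∈ U' ↔ v ∈ U ∧ polar Q v e = 0 := fun v => Iff.rfl
  have hee : polar Q e e = 0 := by rw [polar_self, hQ, smul_zero]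
  have h3 : {v | (v ∈ U ∧ Q v = a) ∧ polar Q v e ≠ 0}.ncard * Nat.card K ≤ ((U : Set V) \ U').ncard := by
    rw [← Nat.card_coe_set_eq, ← Nat.card_prod, ← Nat.card_coe_set_eq]
    refine Nat.card_le_card_of_injective (fun x => ⟨x.1.1 + x.2 • e, U.add_mem x.1.2.1.1 (U.smul_mem _ he), fun h => ?_⟩) ?_
    · have h4 := ((hU' _).1 h).2
      rw [polar_add_left, polar_smul_left, hee, smul_zero, add_zero] at h4
      exact x.1.2.2 h4
    · rintro ⟨⟨v, ⟨hv, hv'⟩, hv0⟩, x⟩ ⟨⟨w, ⟨hw, hw'⟩, hw0⟩, y⟩ h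
      have h1 : v + x • e = w + y • e := congrArg Subtype.val h
      have h4 : w = v + (x - y) • e := by rw [sub_smul, ← add_sub_assoc, h1, add_sub_cancel_right]
      have h6 := map_add_smul Q v e (x - y)
      rw [← h4, hv', hw', hQ] at h6
      have h5 : x - y = 0 := (mul_eq_zero.1 (by linear_combination -h6)).resolve_right hv0
      rw [h5, zero_smul, add_zero] at h4
      subst h4
      rw [sub_eq_zero.1 h5]
  have h1 : Nat.card U' = (U' : Set V).ncard := Nat.card_coe_set_eq (U' : Set V)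
  have h4 : ((U : Set V) \ U').ncard + Nat.card U' = Nat.card U := by
    rw [h1, ← SetLike.coe_sort_coe U, Nat.card_coe_set_eq]
    exact Set.ncard_sdiff_add_ncard_of_subset (fun v hv => hv.1)
  have h5 : {v | v ∈ U ∧ Q v = a}.ncard ≤ {v | (v ∈ U ∧ Q v = a) ∧ polar Q v e ≠ 0}.ncard + Nat.card U' := by
    rw [h1]
    refine le_trans (Set.ncard_le_ncard (fun v hv => ?_)) (Set.ncard_union_le _ _)
    by_cases h0 : polar Q v e = 0
    · exact Or.inr ⟨hv.1, h0⟩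
    · exact Or.inl ⟨hv, h0⟩
  have h6 : finrank K U' < finrank K U :=
    Submodule.finrank_lt_finrank_of_lt (lt_of_le_of_ne inf_le_left fun h => hwe ((hU' w).1 (h ▸ hw)).2)
  have h7 : Nat.card U' * Nat.card K ≤ Nat.card U := by
    rw [Module.natCard_eq_pow_finrank (K := K) (V := U'), Module.natCard_eq_pow_finrank (K := K) (V := U), ← pow_succ]
    exact Nat.pow_le_pow_right Nat.card_pos h6
  rw [← Module.natCard_eq_pow_finrank]
  obtain ⟨r, hr⟩ : ∃ r, Nat.card K = r + 1 := ⟨_, (Nat.succ_pred_eq_of_pos Nat.card_pos).symm⟩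
  rw [hr] at h3 h7 ⊢
  have h8 := Nat.mul_le_mul_right ((r + 1) ^ 2) h5
  have h9 := Nat.mul_le_mul_right (r + 1) h3
  have h10 := Nat.mul_le_mul_right r h7
  rw [← h4] at h10 ⊢
  nlinarith

theorem arith {q m d a b : ℕ} (hq : 2 ≤ q) (hd : d ≤ 8) (h1 : m * q ^ 2 + q ^ d ≤ 2 * q ^ d * q) (ha : a ≤ m)
    (hb : b ≤ q ^ 4 * (q ^ 4 + 1)) : a * b < 2 * (q ^ 7 * (q ^ 8 - 1)) ∧ (d ≠ 8 → a * b < q ^ 7 * (q ^ 8 - 1)) := by
  have q3 : 8 ≤ q ^ 3 := Nat.pow_le_pow_left hq 3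
  have q4 : 16 ≤ q ^ 4 := Nat.pow_le_pow_left hq 4
  obtain ⟨t, ht⟩ : ∃ t, q ^ 4 = t + 1 := ⟨q ^ 4 - 1, by omega⟩
  have e : q ^ 7 * (q ^ 8 - 1) = q ^ 3 * t * (q ^ 4 * (q ^ 4 + 1)) := by
    rw [show q ^ 8 = t * (t + 2) + 1 by rw [show q ^ 8 = q ^ 4 * q ^ 4 by ring, ht]; ring, Nat.add_sub_cancel,
      show q ^ 7 = q ^ 3 * q ^ 4 by ring, ht]
    ring
  have e1 : q ^ 3 * t + q ^ 3 = q ^ 7 := by rw [← Nat.mul_succ, Nat.succ_eq_add_one, ← ht]; ring
  have h2 : ∀ k, d ≤ k + 2 → m + q ^ k ≤ 2 * q ^ k * q := fun k hk => by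
    have h3 : q ^ d ≤ q ^ k * q ^ 2 := by rw [← pow_add]; exact Nat.pow_le_pow_right (by omega) hk
    obtain ⟨r, rfl⟩ : ∃ r, q = r + 1 := ⟨q - 1, by omega⟩
    refine Nat.le_of_mul_le_mul_right (c := (r + 1) ^ 2) ?_ (by positivity)
    have h4 := Nat.mul_le_mul_left (2 * r + 1) h3
    nlinarith
  have h0 : 0 < q ^ 4 * (q ^ 4 + 1) := by positivity
  rw [e, ← mul_assoc]
  refine ⟨Nat.mul_lt_mul_of_lt_of_le ?_ hb h0, fun h8 => Nat.mul_lt_mul_of_lt_of_le ?_ hb h0⟩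
  · have h3 := h2 6 hd
    have h4 : 2 * q ^ 6 * q = 2 * q ^ 7 := by ring
    have h5 : 8 * q ^ 3 ≤ q ^ 6 := by
      rw [show q ^ 6 = q ^ 3 * q ^ 3 by ring]
      exact Nat.mul_le_mul_right _ q3
    omega
  · have h3 := h2 5 (by omega)
    have h4 : 2 * q ^ 5 * q ≤ q ^ 7 := by
      rw [show q ^ 7 = q * q ^ 5 * q by ring]
      gcongr
    have h5 : q ^ 3 < q ^ 5 := Nat.pow_lt_pow_right hq (by norm_num)
    omega

variable {F : Type} [Field F] {n : ℕ} {K : Type} [Field K] {ρ : S F →* GL (Fin n) K} {x : Fin n → K}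

theorem ap_conj (y g : GL (Fin n) K) (v : Fin n → K) : ap (y * g * y⁻¹) (ap y v) = ap y (ap g v) := by
  rw [ap_mul, ap_mul, ap_inv_ap]

theorem Spin.conj {B : (Fin n → K) → (Fin n → K) → K} (h : Spin B ρ x) {y : GL (Fin n) K}
    (hy : ∀ u w, B (ap y u) (ap y w) = B u w) : Spin B ((MulAut.conj y).toMonoidHom.comp ρ) (ap y x) where
  ne := ap_ne y h.ne
  fix g hg := (h.fix g hg).imp fun c hc => by
    refine Eq.trans ?_ (ap_conj y (ρ g) x).symm
    rw [← hc, ap_smul]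
  uniq z hz := by
    obtain ⟨c, hc⟩ := h.uniq (ap y⁻¹ z) fun g hg => (hz g hg).imp fun c hc => ap_inj y (by
      rw [ap_smul, ← ap_conj y (ρ g), ap_ap_inv]
      exact hc)
    exact ⟨c, by rw [← ap_smul, ← hc, ap_ap_inv]⟩
  opp g hg := h.opp g (by rw [← hy, ← ap_conj]; exact hg)
  ex := h.ex.imp fun k hk => ⟨hk.1, by
    have h1 := hk.2
    rw [← hy, ← ap_conj] at h1
    exact h1⟩

/-- the span of a part of the orbit -/
def Vs (ρ : S F →* GL (Fin n) K) (x : Fin n → K) (T : Set (S F)) : Submodule K (Fin n → K) :=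
  Submodule.span K ((fun g => ap (ρ g) x) '' T)

theorem mem_Vs {T : Set (S F)} {g : S F} (hg : g ∈ T) : ap (ρ g) x ∈ Vs ρ x T := Submodule.subset_span ⟨g, hg, rfl⟩

theorem to_Vs {z : GL (Fin n) K} {T T' : Set (S F)} (h : ∀ g ∈ T, ∃ g' ∈ T', ∃ c : K, ap z (ap (ρ g) x) = c • ap (ρ g') x) :
    To z (Vs ρ x T) (Vs ρ x T') := by
  refine (Submodule.span_le.2 ?_ : Vs ρ x T ≤ (Vs ρ x T').comap (toLin' (z : Matrix (Fin n) (Fin n) K)))
  rintro _ ⟨g, hg, rfl⟩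
  obtain ⟨g', hg', c, hc⟩ := h g hg
  change ap z _ ∈ Vs ρ x T'
  rw [hc]
  exact Submodule.smul_mem _ _ (mem_Vs hg')

theorem to_Vs' {k : S F} {T T' : Set (S F)} (h : ∀ g ∈ T, k * g ∈ T') : To (ρ k) (Vs ρ x T) (Vs ρ x T') :=
  to_Vs fun g hg => ⟨_, h g hg, 1, by rw [map_mul, ap_mul, one_smul]⟩

variable [Fintype F] [CharP F 2] [Fintype K] {Q : (Fin n → K) → K}

/-- the two halves -/
abbrev V1 (ρ : S F →* GL (Fin n) K) (x : Fin n → K) : Submodule K (Fin n → K) := Vs ρ x {g | g ∈ E F}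
abbrev V2 (ρ : S F →* GL (Fin n) K) (x : Fin n → K) : Submodule K (Fin n → K) := Vs ρ x {g | g ∈ O F ∧ g ∉ E F}

theorem x_mem : x ∈ V1 ρ x := by
  have h := mem_Vs (ρ := ρ) (x := x) (T := {g | g ∈ E F}) (one_mem (E F))
  rwa [map_one, ap_one] at h

theorem to_E {k : S F} (hk : k ∈ E F) : To (ρ k) (V1 ρ x) (V1 ρ x) ∧ To (ρ k) (V2 ρ x) (V2 ρ x) :=
  ⟨to_Vs' fun _ hg => mul_mem hk hg, to_Vs' fun _ hg =>
    ⟨mul_mem (E_le hk) hg.1, fun h => hg.2 (((mul_mem_E (E_le hk) hg.1).1 h).1 hk)⟩⟩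

theorem fr_V : finrank K (V1 ρ x) = finrank K (V2 ρ x) := by
  obtain ⟨t, ht, ht'⟩ := exists_refl (F := F)
  exact le_antisymm
    (To.le (to_Vs' (k := t) fun _ hg => ⟨mul_mem ht (E_le hg), fun h => ht' (((mul_mem_E ht (E_le hg)).1 h).2 hg)⟩))
    (To.le (to_Vs' (k := t) fun _ hg => (mul_mem_E ht hg.1).2 (iff_of_false ht' hg.2)))

theorem orth (hQ : IsNondegenerateQuadraticForm Q) (hi : ∀ g, ρ g ∈ isometryGroup K Q) (h : Spin (polar Q) ρ x) :
    V2 ρ x ≤ H955.perp (qf hQ) (V1 ρ x) := by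
  refine Submodule.span_le.2 ?_
  rintro _ ⟨g', hg', rfl⟩ w hw
  refine (Submodule.span_le.2 ?_ : V1 ρ x ≤ LinearMap.ker ((qf hQ).polarBilin.flip _)) hw
  rintro _ ⟨g, hg, rfl⟩
  change polar Q (ap (ρ g) x) (ap (ρ g') x) = 0
  by_contra h1
  rw [polar_comm, ← Ix.polar_iso (hi g⁻¹)] at h1
  change polar Q (ap _ (ap _ x)) (ap _ (ap _ x)) ≠ 0 at h1
  rw [← ap_mul, ← map_mul, map_inv, ap_inv_ap] at h1
  have h2 := inv_mem (E_le hg)
  exact hg'.2 (((mul_mem_E h2 hg'.1).1 (mem_E_of (mul_mem h2 hg'.1) (h.opp _ h1))).1 (inv_mem hg))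

theorem exists_fac {B : (Fin n → K) → (Fin n → K) → K} (h : Spin B ρ x) (hρ : Function.Injective ρ) {y : GL (Fin n) K}
    (hy : ∀ g, y * ρ g * y⁻¹ ∈ ρ.range) : ∃ g, To (ρ g * y) (V1 ρ x) (V1 ρ x) ∧ To (ρ g * y) (V2 ρ x) (V2 ρ x) := by
  have : Finite (S F) := Finite.of_injective ρ hρ
  choose f hf using hy
  let φ : MulAut (S F) := MulEquiv.ofBijective (MonoidHom.mk' f fun a b => hρ (by rw [map_mul, hf, hf, hf, map_mul]; group))
    (Finite.injective_iff_bijective.1 fun a b e => hρ (by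
      have h1 := hf a
      rw [show f a = f b from e, hf] at h1
      exact (mul_left_cancel (mul_right_cancel h1)).symm))
  obtain ⟨g, hg⟩ := exists_aut φ
  have h1 : ∀ k v, ap (ρ g * y) (ap (ρ k) v) = ap (ρ (g * φ k * g⁻¹)) (ap (ρ g * y) v) := fun k v => by
    rw [← ap_conj, map_mul, map_mul, map_inv, show ρ (φ k) = _ from hf k]
    congr 1
    group
  obtain ⟨c, hc⟩ := h.uniq (ap (ρ g * y) x) fun k hk => by
    have h2 : g * φ (φ.symm (g⁻¹ * k * g)) * g⁻¹ = k := by rw [MulEquiv.apply_symm_apply]; group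
    obtain ⟨c, hc⟩ := h.fix _ ((hg _).1.1 (h2.symm ▸ hk))
    exact ⟨c, by rw [← ap_smul, hc, h1, h2]⟩
  exact ⟨g, to_Vs fun k hk => ⟨_, (hg k).2.2.2 hk, c, by rw [h1, hc, ap_smul]⟩,
    to_Vs fun k hk => ⟨_, ⟨(hg k).2.1.2 hk.1, fun e => hk.2 ((hg k).2.2.1 e)⟩, c, by rw [h1, hc, ap_smul]⟩⟩

theorem count (hQ : IsNondegenerateQuadraticForm Q) {Y D : Subgroup (GL (Fin n) K)} (hY : Y ≤ isometryGroup K Q) {v e : Fin n → K}
    (idx : (subspaceStabilizer (Submodule.span K {v})).relIndex Y = Fintype.card K ^ 7 * (Fintype.card K ^ 8 - 1))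
    {U : Submodule K (Fin n → K)} (he : e ∈ U) (hQe : Q e = 0) (hv : v ∈ U) (hve : polar Q v e ≠ 0) (hd : finrank K U ≤ 8)
    (hD : D ≤ Y) (hU : ∀ g ∈ D, To g U U) (hi : D.relIndex Y ≤ Fintype.card K ^ 4 * (Fintype.card K ^ 4 + 1)) :
    finrank K U = 8 ∧ subspaceStabilizer (Submodule.span K {v}) ⊓ Y ≤ D := by
  have hv0 : v ≠ 0 := by
    rintro rfl
    exact hve (polar_zero_left (qf hQ) e)
  have h1 := cnt (qf hQ) U (Q v) he hQe hv hve
  rw [Nat.card_eq_fintype_card] at h1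
  obtain ⟨h2, h3⟩ := arith Fintype.one_lt_card hd h1 (Ix.relIndex_le (hD.trans hY) hU hv hv0) hi
  rw [← idx] at h2 h3
  refine ⟨by_contra fun h4 => (h3 h4).not_ge ?_, j_one hD h2⟩
  rw [← inf_relIndex_right _ D, relIndex_mul_relIndex _ _ _ inf_le_right hD]
  exact relIndex_le_of_le_left inf_le_left index_ne_zero_of_finite

end Be

open Be in
/-- **[CS-Be]** -/
theorem boxBe : BoxBe := by
  intro n K _ _ k q m B Sg G X Y P h ⟨hk, hm, hq, F, _, _, hF, ⟨e⟩⟩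
  subst hk hm
  have hsph := h.sph
  cases hsph with
  | p1 Q hQ hp hK hd v hv =>
  subst hK
  have : CharP K 2 := ringChar.of_eq (FiniteField.even_card_iff_char_two.2 (Nat.even_iff.1 hq))
  have : CharP F 2 := ringChar.of_eq (FiniteField.even_card_iff_char_two.2 (Nat.even_iff.1 (hF ▸ hq)))
  have hq2 : 2 ≤ Fintype.card K := Fintype.one_lt_card
  have hYi := h.le.trans (H925.omegaGL_le_iso Q)
  have hsc : ∀ y ∈ Y, y ∈ scalars (Fin n) K → y = 1 := fun y hy hs =>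
    (Bo.scal hQ hv (hYi hy) hs).elim id fun h1 => h1.trans (Units.ext (Matrix.ext fun _ _ => CharTwo.neg_eq _))
  have hinj : Function.Injective (toSoc P) := (injective_iff_map_eq_one _).2 fun g hg => by
    rw [← MonoidHom.mem_ker, ker_toSoc] at hg
    exact Subtype.ext (hsc _ (h.core.le g.2) hg)
  have idx : (subspaceStabilizer (Submodule.span K {v})).relIndex Y = Fintype.card K ^ 7 * (Fintype.card K ^ 8 - 1) := by
    have h4 : (subspaceStabilizer (Submodule.span K {v})).relIndex Y * Nat.gcd 2 (Fintype.card K - 1) =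
      Fintype.card K ^ (8 - 1) * (Fintype.card K ^ 8 - 1) := h.idx
    rwa [Nat.Coprime.gcd_eq_one (Nat.coprime_two_left.2 (Nat.Even.sub_odd (by omega) hq odd_one)), mul_one] at h4
  obtain ⟨ρ, x, hρ, hr, hx, hs, hv1, hvx⟩ : ∃ (ρ : S F →* GL (Fin n) K) (x : Fin n → K), Function.Injective ρ ∧ ρ.range = P ∧
      Q x = 0 ∧ Spin (polar Q) ρ x ∧ v ∈ V1 ρ x ∧ polar Q v x ≠ 0 := by
    let ε : S F ≃* P := ((eP F).trans e.symm).trans (MulEquiv.ofBijective _ ⟨hinj, toSoc_surjective P⟩).symm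
    have r0 : (P.subtype.comp ε.toMonoidHom).range = P := by
      rw [MonoidHom.range_comp, MonoidHom.range_eq_top.2 ε.surjective, ← MonoidHom.range_eq_map, range_subtype]
    have i0 : Function.Injective (P.subtype.comp ε.toMonoidHom) := P.subtype_injective.comp ε.injective
    generalize P.subtype.comp ε.toMonoidHom = ρ at r0 i0
    have hP : ∀ g, ρ g ∈ P := fun g => r0 ▸ ⟨g, rfl⟩
    obtain ⟨x, hx, hs⟩ := exists_spin (Ti.tc_of_hy Ti.Q.ins_p1 h) h.pol (Ti.Q.sing hQ (by omega)) (h.core.le.trans h.le)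
      (by simpa using hd) hF r0
    obtain ⟨w, hw, hw'⟩ := exists_swap (F := F)
    obtain ⟨k, hk, hk'⟩ := hs.ex
    have h1 : polar Q (ap (ρ w) x) x ≠ 0 := by
      obtain ⟨c, hc⟩ := hs.fix (w⁻¹ * k) fun u => by
        rw [mul_ap, ← mem_im, hw', ← hk, mem_im, inv_ap]
      rw [← mul_inv_cancel_left w k, map_mul, ap_mul, ← hc, ap_smul, h.pol.smul] at hk'
      exact right_ne_zero_of_mul hk'
    have h2 : Q (ap (ρ w) x + x) = polar Q (ap (ρ w) x) x := by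
      rw [Ti.Q.Q_add (Q := Q), Ti.Q.fix (h.le (h.core.le (hP w))), show Q x = 0 from hx, zero_add, zero_add]
    obtain ⟨c, hc⟩ := isSquare_of_charTwo' (Q (ap (ρ w) x + x) / Q v)
    have h3 : Q (ap (ρ w) x + x) = Q (c • v) := by rw [hQ.smul, pow_two, ← hc, div_mul_cancel₀ _ hv]
    obtain ⟨g, hg, h4⟩ : ap (ρ w) x + x ∈ Ix.orb (omegaGL Q) (c • v) := by
      rw [Ix.orb_omega hQ (by omega) (by rw [← h3, h2]; exact h1)]
      exact h3
    obtain ⟨y, hy, t, ht, rfl⟩ := h.fac g hg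
    obtain ⟨d, hd⟩ := Ix.mem_stab_point.1 ht
    have h5 : (c * d) • v = ap y⁻¹ (ap (ρ w) x) + ap y⁻¹ x := by
      rw [← ap_add, ← h4]
      change _ = ap y⁻¹ (ap (y * t) (c • v))
      rw [ap_mul, ap_inv_ap, ap_smul, mul_smul]
      exact congrArg _ hd.symm
    have h6 := Ix.polar_iso (hYi (inv_mem hy))
    have h7 : c * d * polar Q v (ap y⁻¹ x) ≠ 0 := by
      rw [← h.pol.smul, h5, h.pol.add, h6, h6, h.pol.sg_self x hx, add_zero]
      exact h1
    refine ⟨_, _, (MulAut.conj y⁻¹).injective.comp i0, le_antisymm ?_ fun p hp => ?_,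
      (Ti.Q.fix (h.le (inv_mem hy)) x).trans hx, hs.conj h6, ?_, right_ne_zero_of_mul h7⟩
    · rintro _ ⟨g, rfl⟩
      exact h.core.normal _ (inv_mem hy) _ (hP g)
    · obtain ⟨g, hg⟩ : y * p * y⁻¹ ∈ ρ.range := r0.symm ▸ h.core.normal _ hy _ hp
      exact ⟨g, show y⁻¹ * ρ g * y⁻¹⁻¹ = p by rw [hg]; group⟩
    · rw [← Submodule.smul_mem_iff _ (left_ne_zero_of_mul h7), h5, ← ap_conj]
      exact add_mem (mem_Vs (ρ := (MulAut.conj y⁻¹).toMonoidHom.comp ρ) hw) x_mem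
  have hP : ∀ g, ρ g ∈ P := fun g => hr ▸ ⟨g, rfl⟩
  have ho := orth hQ (fun g => hYi (h.core.le (hP g))) hs
  have h8 : finrank K (V1 ρ x) ≤ 8 := by
    have h1 := H955.finrank_add_perp (nondeg_qf hQ) (V1 ρ x)
    have h2 := Submodule.finrank_mono ho
    rw [finrank_fintype_fun_eq_card, hd] at h1
    rw [← fr_V] at h2
    omega
  have hE : ((E F).map ρ).relIndex P = Fintype.card K ^ 4 * (Fintype.card K ^ 4 + 1) := by
    rw [← hr, MonoidHom.range_eq_map, relIndex_map_map_of_injective _ _ hρ, relIndex_top_right, index_E, hF]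
  refine ⟨fun w hw hX => ?_, fun hY => ?_⟩
  · obtain ⟨c, rfl⟩ := Bo.line_eq hQ (Bo.ne_zero_of (Q := qf hQ) hv) hX
    obtain ⟨h1, h2⟩ := count hQ hYi idx x_mem hx hv1 hvx h8
      (D := Y ⊓ (subspaceStabilizer (V1 ρ x) ⊓ subspaceStabilizer (V2 ρ x))) inf_le_left
      (fun g hg => Ix.mem_stab_iff.1 hg.2.1) (by
        rw [Bo.relIndex_eq_of_fac h.core.le fun y hy => ?_, ← hE]
        · refine relIndex_le_of_le_left ?_ index_ne_zero_of_finite
          rintro _ ⟨g, hg, rfl⟩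
          exact ⟨h.core.le (hP g), Ix.mem_stab_iff.2 (to_E hg).1, Ix.mem_stab_iff.2 (to_E hg).2⟩
        · obtain ⟨g, h1, h2⟩ := exists_fac hs hρ (y := y) fun g => hr.symm ▸ h.core.normal y hy _ (hP g)
          refine ⟨(ρ g)⁻¹, inv_mem (hP g), ?_⟩
          rw [inv_inv]
          exact ⟨mul_mem (h.core.le (hP g)) hy, Ix.mem_stab_iff.2 h1, Ix.mem_stab_iff.2 h2⟩)
    refine ⟨V2 ρ x, fr_V.symm.trans h1, fun g hg => (h2 hg).2.2, fun h3 => hvx ?_, fun u hu => ?_⟩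
    · rw [polar_comm]
      exact ho ((Submodule.smul_mem_iff _ (left_ne_zero_of_smul hw)).1 h3) x x_mem
    · rw [polar_comm]
      exact ho hu _ (Submodule.smul_mem _ _ hv1)
  · have hN : (scalars (Fin n) K).Normal := ⟨fun a ha g => by
      obtain ⟨c, hc⟩ := (mem_scalars_iff _).1 ha
      refine (mem_scalars_iff _).2 ⟨c, ?_⟩
      rw [Units.val_mul, Units.val_mul, hc, Matrix.mul_smul, Matrix.mul_one, Matrix.smul_mul, ← Units.val_mul,
        mul_inv_cancel, Units.val_one]⟩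
    obtain rfl : P = Y := le_antisymm h.core.le fun y hy => by
      obtain ⟨p, hp, t, ht, rfl⟩ := mem_sup_of_normal_right.1 (hY hy)
      rwa [hsc t ((Y.mul_mem_cancel_left (h.core.le hp)).1 hy) ht, mul_one]
    have h1 := (count hQ hYi idx x_mem hx hv1 hvx h8 (D := (E F).map ρ) (by rintro _ ⟨g, -, rfl⟩; exact hP g)
      (by rintro _ ⟨g, hg, rfl⟩; exact (to_E hg).1) hE.le).2
    let ε : S F ≃* H915.LD.Soc P := MulEquiv.ofBijective ((toSoc P).comp (ρ.codRestrict P hP))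
      ⟨hinj.comp fun a b e => hρ (congrArg Subtype.val e), (toSoc_surjective P).comp fun p => by
        obtain ⟨g, hg⟩ : p.1 ∈ ρ.range := hr.symm ▸ p.2
        exact ⟨g, Subtype.ext hg⟩⟩
    have h2 : img (subspaceStabilizer (Submodule.span K {v})) P =
        ((subspaceStabilizer (Submodule.span K {v})).comap ρ).map ε.toMonoidHom := by
      ext t
      constructor
      · rintro ⟨p, hp, rfl⟩
        obtain ⟨g, hg⟩ : p.1 ∈ ρ.range := hr.symm ▸ p.2
        exact ⟨g, mem_comap.2 (hg.symm ▸ mem_subgroupOf.1 hp), congrArg (toSoc P) (Subtype.ext hg)⟩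
      · rintro ⟨g, hg, rfl⟩
        exact ⟨⟨ρ g, hP g⟩, hg, rfl⟩
    rw [h2]
    refine fun h3 => not_prm (fun g hg => ?_) (fun h4 => ?_) (prm_of_map ε h3)
    · obtain ⟨g', hg', h4⟩ := h1 ⟨hg, hP g⟩
      exact hρ h4 ▸ hg'
    · have : Finite (S F) := Finite.of_injective ρ hρ
      rw [← hr, ← index_comap, h4, index_bot] at idx
      have h5 := Nat.le_of_dvd Nat.card_pos ⟨_, card_S (F := F)⟩
      rw [idx, hF] at h5
      have h6 : Fintype.card K ^ 7 * (Fintype.card K ^ 8 - 1) ≤ Fintype.card K ^ (7 + 8) := by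
        rw [pow_add]
        exact Nat.mul_le_mul_left _ (Nat.sub_le _ _)
      exact (Nat.pow_lt_pow_right hq2 (by norm_num)).not_ge (h5.trans h6)

end Cfsg.Agent.SM.CS
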