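import Cfsg.Agent.SM.CS.Defs
import Cfsg.Agent.PQ.G4.Fs
import Cfsg.Agent.H62.SpCross
import Cfsg.Agent.H957.SpIndex
import Cfsg.Agent.ClassicalGeometry.TwoFamilies
import Cfsg.Agent.ClassicalGeometry.SympAutOddA
import Cfsg.Agent.ClassicalGeometry.SympAutExists

/-!
# SM (S3570), box CS-Be: the subgroups `E < O < S = Sp₈(q)`, `q` even (helper84)

* `St` the stabiliser of the Lagrangian `L0`, `O` the group of the form `quadFormPlus`, `E` the stabiliser of the family of `L0`;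
* `index_E`, `exists_aut` (every automorphism fixes the three groups up to an inner one), `not_prm`.
-/

set_option autoImplicit false
set_option linter.unusedSectionVars false

namespace Cfsg.Agent.SM.CS.Be

open Cfsg Module Cfsg.Agent.ClassicalGeometry Cfsg.Agent.ClassicalGeometry.SympBasic
open Cfsg.Agent.TitsThree.SpIdent

/-- the natural module -/
abbrev Nm (F : Type) : Type := Fin 4 ⊕ Fin 4 → F

/-- the symplectic group -/
abbrev S (F : Type) [Field F] : Type := isos (form 4 F)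

variable {F : Type} [Field F]

local notation "ω" => sympForm 4 _
local notation "Q0" => quadFormPlus 4 _

/-- the standard Lagrangian -/
def L0 (F : Type) [Field F] : Submodule F (Nm F) := LinearMap.ker (LinearMap.funLeft F F Sum.inl)

/-- the opposite one -/
def L1 (F : Type) [Field F] : Submodule F (Nm F) := LinearMap.ker (LinearMap.funLeft F F Sum.inr)

theorem mem_L0 {w : Nm F} : w ∈ L0 F ↔ ∀ i, w (.inl i) = 0 := funext_iff
theorem mem_L1 {w : Nm F} : w ∈ L1 F ↔ ∀ i, w (.inr i) = 0 := funext_iff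

theorem fr_N : finrank F (Nm F) = 2 * 4 := by simp

theorem fr_L0 : finrank F (L0 F) = 4 := by
  have h := (LinearMap.funLeft F F (Sum.inl : Fin 4 → Fin 4 ⊕ Fin 4)).finrank_range_add_finrank_ker
  rw [LinearMap.range_eq_top.2 (LinearMap.funLeft_surjective_of_injective _ _ _ Sum.inl_injective), finrank_top, fr_N,
    Module.finrank_fin_fun] at h
  exact Nat.add_left_cancel (n := 4) h

theorem Q0_L0 {w : Nm F} (hw : w ∈ L0 F) : Q0 w = 0 :=
  Finset.sum_eq_zero fun i _ => by rw [mem_L0.1 hw i, zero_mul]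

theorem mem_L0_of {b : Nm F} (h : ∀ w ∈ L0 F, ω b w = 0) : b ∈ L0 F := mem_L0.2 fun i => by
  have h1 := h (Pi.single (.inr i) 1) (mem_L0.2 fun j => Pi.single_eq_of_ne (by simp) _)
  rwa [sympForm_single_inr_right, neg_eq_zero] at h1

theorem Q0_smul (c : F) (w : Nm F) : Q0 (c • w) = c ^ 2 * Q0 w := by
  unfold quadFormPlus
  rw [Finset.mul_sum]
  exact Finset.sum_congr rfl fun i _ => by simp only [Pi.smul_apply, smul_eq_mul]; ring

theorem iso (g : S F) (u w : Nm F) : ω (g.1 u) (g.1 w) = ω u w := g.2 u w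

theorem mul_ap (g h : S F) (w : Nm F) : (g * h).1 w = g.1 (h.1 w) := rfl
theorem inv_ap (g : S F) (w : Nm F) : g⁻¹.1 (g.1 w) = w := g.1.symm_apply_apply w
theorem ap_inv (g : S F) (w : Nm F) : g.1 (g⁻¹.1 w) = w := g.1.apply_symm_apply w

/-- the image of a subspace -/
def im (g : S F) (L : Submodule F (Nm F)) : Submodule F (Nm F) := L.map (g.1 : Nm F →ₗ[F] Nm F)

theorem mem_im {g : S F} {L : Submodule F (Nm F)} {w : Nm F} : w ∈ im g L ↔ g⁻¹.1 w ∈ L :=
  ⟨by rintro ⟨u, hu, rfl⟩; exact (inv_ap g u).symm ▸ hu, fun h => ⟨_, h, ap_inv g w⟩⟩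

theorem fr_im (g : S F) (L : Submodule F (Nm F)) : finrank F (im g L) = finrank F L := LinearEquiv.finrank_map_eq _ _

/-- the stabiliser of `L0` -/
def St (F : Type) [Field F] : Subgroup (S F) where
  carrier := {g | ∀ w, g.1 w ∈ L0 F ↔ w ∈ L0 F}
  one_mem' _ := Iff.rfl
  mul_mem' {a b} ha hb w := (ha (b.1 w)).trans (hb w)
  inv_mem' {a} ha w := by rw [← ha, ap_inv]

/-- the orthogonal group -/
def O (F : Type) [Field F] : Subgroup (S F) where
  carrier := {g | ∀ w, Q0 (g.1 w) = Q0 w}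
  one_mem' _ := rfl
  mul_mem' {a b} ha hb w := (ha (b.1 w)).trans (hb w)
  inv_mem' {a} ha w := by rw [← ha, ap_inv]

/-- the dimension of the intersection -/
noncomputable def par (g : S F) : ℕ := finrank F ↥(L0 F ⊓ im g (L0 F))

/-- transvections -/
def tv (b : Nm F) (c : F) : S F := ⟨ofSp (transv b c), ofSp_mem _⟩

theorem tv_ap (b : Nm F) (c : F) (w : Nm F) : (tv b c).1 w = w + (c * ω w b) • b := sympTransvection_mulVec b w c

theorem par_one : par (1 : S F) = 4 := by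
  have h : im (1 : S F) (L0 F) = L0 F := Submodule.ext fun _ => mem_im
  rw [par, h, inf_idem, fr_L0]

theorem fr_eq [Finite F] {A B : Submodule F (Nm F)} (σ : Nm F ≃ Nm F) (h : ∀ w, w ∈ A ↔ σ w ∈ B) :
    finrank F A = finrank F B := by
  have h1 : Nat.card A = Nat.card B := Nat.card_congr (σ.subtypeEquiv h)
  rw [Module.natCard_eq_pow_finrank (K := F) (V := A), Module.natCard_eq_pow_finrank (K := F) (V := B)] at h1
  exact Nat.pow_right_injective Finite.one_lt_card h1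

variable [CharP F 2]

theorem ω_symm (u w : Nm F) : ω u w = ω w u := by rw [sympForm_swap, CharTwo.neg_eq]

theorem Q0_add (u w : Nm F) : Q0 (u + w) = Q0 u + Q0 w + ω u w := by
  unfold quadFormPlus
  rw [sympForm_eq_sum, ← Finset.sum_add_distrib, ← Finset.sum_add_distrib]
  exact Finset.sum_congr rfl fun i _ => by rw [CharTwo.sub_eq_add, Pi.add_apply, Pi.add_apply]; ring

theorem Q0_tv (b : Nm F) (c : F) (w : Nm F) : Q0 ((tv b c).1 w) = Q0 w + c * ω w b ^ 2 * (1 + c * Q0 b) := by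
  rw [tv_ap, Q0_add, Q0_smul, sympForm_smul_right]
  ring

theorem par_mul {g h : S F} (hg : g ∈ O F) (hh : h ∈ O F) : Even (par g + par h + par (g * h)) := by
  have h0 : ∀ k ∈ O F, ∀ u ∈ im k (L0 F), Q0 u = 0 := by
    rintro k hk _ ⟨u, hu, rfl⟩
    exact (hk u).trans (Q0_L0 hu)
  have h1 := TwoFamilies.even_intersections (B := sympBilin 4 F) Q0 Q0_add sympBilin_nondegenerate sympBilin_isAlt.isRefl 4
    fr_N (L0 F) (im g (L0 F)) (im (g * h) (L0 F)) fr_L0 (by rw [fr_im, fr_L0]) (by rw [fr_im, fr_L0])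
    (fun _ => Q0_L0) (h0 g hg) (h0 _ (mul_mem hg hh))
  have h2 : im g (L0 F) ⊓ im (g * h) (L0 F) = im g (L0 F ⊓ im h (L0 F)) := by
    ext w
    simp only [Submodule.mem_inf, mem_im, mul_inv_rev, mul_ap]
  rw [h2, fr_im] at h1
  exact (Nat.even_add.1 h1).2 (by decide)

/-- the stabiliser of the family of `L0` -/
def E (F : Type) [Field F] [CharP F 2] : Subgroup (S F) where
  carrier := {g | g ∈ O F ∧ Even (par g)}
  one_mem' := ⟨one_mem _, by rw [par_one]; decide⟩
  mul_mem' {a b} ha hb := ⟨mul_mem ha.1 hb.1, (Nat.even_add.1 (par_mul ha.1 hb.1)).1 (ha.2.add hb.2)⟩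
  inv_mem' {a} ha := ⟨inv_mem ha.1, by
    have h := par_mul ha.1 (inv_mem ha.1)
    rw [mul_inv_cancel, par_one] at h
    exact (Nat.even_add.1 ((Nat.even_add.1 h).2 (by decide))).1 ha.2⟩

theorem E_le : E F ≤ O F := fun _ h => h.1

theorem mul_mem_E {g h : S F} (hg : g ∈ O F) (hh : h ∈ O F) : g * h ∈ E F ↔ (g ∈ E F ↔ h ∈ E F) := by
  have h1 := par_mul hg hh
  rw [Nat.even_add, Nat.even_add] at h1
  change _ ∧ _ ↔ (_ ∧ _ ↔ _ ∧ _)
  rw [and_iff_right hg, and_iff_right hh, and_iff_right (mul_mem hg hh)]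
  exact h1.symm

theorem mem_E_of {g : S F} (hg : g ∈ O F) (h : L0 F ⊓ im g (L0 F) = ⊥) : g ∈ E F :=
  ⟨hg, by rw [par, h, finrank_bot]; decide⟩

theorem refl_O {b : Nm F} (hb : Q0 b ≠ 0) : tv b (Q0 b)⁻¹ ∈ O F := fun w => by
  rw [Q0_tv, inv_mul_cancel₀ hb, CharTwo.add_self_eq_zero, mul_zero, add_zero]

theorem refl_E {b : Nm F} (hb : Q0 b ≠ 0) : tv b (Q0 b)⁻¹ ∉ E F := by
  intro h
  have hbL : b ∉ L0 F := fun h => hb (Q0_L0 h)
  let l : L0 F →ₗ[F] F := ((sympBilin 4 F).flip b).domRestrict (L0 F)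
  have h1 : LinearMap.range l = ⊤ := by
    rw [LinearMap.range_eq_top]
    obtain ⟨w, hw, h0⟩ : ∃ w ∈ L0 F, ω b w ≠ 0 := by
      by_contra hc
      push Not at hc
      exact hbL (mem_L0_of hc)
    intro c
    refine ⟨(c / ω b w) • ⟨w, hw⟩, ?_⟩
    rw [map_smul, smul_eq_mul]
    change c / ω b w * ω w b = c
    rw [ω_symm w, div_mul_cancel₀ _ h0]
  have h2 := l.finrank_range_add_finrank_ker
  rw [h1, finrank_top, Module.finrank_self, fr_L0] at h2
  have h3 : L0 F ⊓ im (tv b (Q0 b)⁻¹) (L0 F) = (LinearMap.ker l).map (L0 F).subtype := by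
    ext w
    constructor
    · rintro ⟨hw, u, hu, rfl⟩
      have hw' : u + ((Q0 b)⁻¹ * ω u b) • b ∈ L0 F := tv_ap b _ u ▸ hw
      have h4 : (Q0 b)⁻¹ * ω u b = 0 := by
        by_contra h4
        exact hbL (((L0 F).smul_mem_iff h4).1 (((L0 F).add_mem_iff_right hu).1 hw'))
      refine ⟨⟨u, hu⟩, (mul_eq_zero.1 h4).resolve_left (inv_ne_zero hb), ?_⟩
      change u = (tv b _).1 u
      rw [tv_ap, h4, zero_smul, add_zero]
    · rintro ⟨⟨u, hu⟩, h4, rfl⟩
      refine ⟨hu, u, hu, ?_⟩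
      change (tv b _).1 u = u
      rw [tv_ap, show ω u b = 0 from h4, mul_zero, zero_smul, add_zero]
  have h4 := h.2
  rw [par, h3, Submodule.finrank_map_subtype_eq, show finrank F (LinearMap.ker l) = 3 by omega] at h4
  exact absurd h4 (by decide)

theorem tv_O {b : Nm F} (h0 : b ≠ 0) (hb : Q0 b = 0) : tv b 1 ∉ O F := by
  intro h
  refine h0 (eq_zero_of_forall_sympForm_left fun w => ?_)
  have h1 := h w
  rw [Q0_tv, hb, mul_zero, add_zero, mul_one, one_mul, add_eq_left] at h1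
  exact pow_eq_zero_iff two_ne_zero |>.1 h1

theorem exists_refl : ∃ t ∈ O F, t ∉ E F := by
  have hb : Q0 (fun _ => (0 : F)) + Q0 (Sum.elim (Pi.single 0 1) (Pi.single 0 1)) ≠ 0 := by
    simp [quadFormPlus, Fin.sum_univ_four]
  have h0 : Q0 (fun _ => (0 : F)) = 0 := Q0_L0 (zero_mem _)
  rw [h0, zero_add] at hb
  exact ⟨_, refl_O hb, refl_E hb⟩

/-- the swap of the two halves -/
theorem exists_swap : ∃ w ∈ E F, im w (L0 F) = L1 F := by
  let e : Nm F ≃ₗ[F] Nm F := LinearEquiv.funCongrLeft F F (Equiv.sumComm (Fin 4) (Fin 4))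
  have h1 : ∀ u i, e u (.inl i) = u (.inr i) := fun _ _ => rfl
  have h2 : ∀ u i, e u (.inr i) = u (.inl i) := fun _ _ => rfl
  have hO : ∀ u, Q0 (e u) = Q0 u := fun u => Finset.sum_congr rfl fun i _ => by rw [h1, h2, mul_comm]
  let w : S F := ⟨e, fun u v => by
    have h3 := Q0_add (e u) (e v)
    rw [← map_add, hO, hO, hO, Q0_add] at h3
    exact (add_left_cancel h3).symm⟩
  have h3 : im w (L0 F) = L1 F := by
    ext u
    constructor
    · rintro ⟨v, hv, rfl⟩
      exact mem_L1.2 fun i => mem_L0.1 hv i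
    · intro hu
      refine ⟨e u, mem_L0.2 fun i => mem_L1.1 hu i, funext fun j => ?_⟩
      rcases j with i | i <;> rfl
  refine ⟨w, mem_E_of hO ?_, h3⟩
  rw [h3, eq_bot_iff]
  rintro u ⟨h4, h5⟩
  refine funext fun j => ?_
  rcases j with i | i
  · exact mem_L0.1 h4 i
  · exact mem_L1.1 h5 i

variable [Fintype F]

theorem card_S : Nat.card (S F) = Fintype.card F ^ (4 ^ 2) * ∏ i ∈ Finset.range 4, (Fintype.card F ^ (2 * (i + 1)) - 1) := by
  rw [Nat.card_congr (H62.SpCross.isoSp 4 F).toEquiv, S0245.result rfl]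

theorem index_E : (E F).index = Fintype.card F ^ 4 * (Fintype.card F ^ 4 + 1) := by
  have h1 : (E F).relIndex (O F) = 2 := by
    obtain ⟨t, ht, ht'⟩ := exists_refl (F := F)
    refine Subgroup.relIndex_eq_two_iff.2 ⟨t, ht, fun b hb => ?_⟩
    rw [mul_mem_E hb ht, iff_false_intro ht', iff_false]
    exact (xor_not_left.2 Iff.rfl)
  have h2 : Nat.card (O F) = Nat.card (H957.isoQ (LieClassical.QuadForms.plusForm 4 F)) := by
    have hc := LieClassical.QuadForms.coe_plusForm (F := F) 4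
    refine Nat.card_congr
      { toFun := fun g => ⟨g.1.1, fun v => by rw [hc]; exact g.2 v⟩
        invFun := fun g => ⟨⟨g.1, fun u v => ?_⟩, fun v => by rw [← hc]; exact g.2 v⟩
        left_inv := fun _ => rfl
        right_inv := fun _ => rfl }
    have hO : ∀ u, Q0 (g.1 u) = Q0 u := fun u => by rw [← hc]; exact g.2 u
    have h3 := Q0_add (g.1 u) (g.1 v)
    rw [← map_add, hO, hO, hO, Q0_add] at h3
    exact (add_left_cancel h3).symm
  rw [← H957.card_isometryGroup, LieClassical.QuadForms.coe_plusForm, S0287.result rfl 4 (by norm_num)] at h2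
  have h3 := (O F).card_mul_index
  rw [h2, card_S] at h3
  rw [← Subgroup.relIndex_mul_index E_le, h1]
  exact H957.index_arith Fintype.one_lt_card (by norm_num) true h3

/-- the forms with the polar form `ω` -/
theorem exists_b (Q' : Nm F → F) (ha : ∀ u w, Q' (u + w) = Q' u + Q' w + ω u w) (hs : ∀ (c : F) w, Q' (c • w) = c ^ 2 * Q' w) :
    ∃ b, ∀ w, Q' w = Q0 w + ω w b ^ 2 := by
  have : ExpChar F 2 := ExpChar.prime Nat.prime_two
  let s := (frobeniusEquiv F 2).symm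
  have h1 : ∀ x, s x ^ 2 = x := fun x => (frobeniusEquiv F 2).apply_symm_apply x
  have h2 : ∀ x, s (x ^ 2) = x := fun x => (frobeniusEquiv F 2).symm_apply_apply x
  let l : Nm F →ₗ[F] F :=
    { toFun := fun w => s (Q' w - Q0 w)
      map_add' := fun u w => by rw [← map_add, ha, Q0_add]; congr 1; ring
      map_smul' := fun c w => by rw [hs, Q0_smul, ← mul_sub, map_mul, h2]; rfl }
  refine ⟨(LinearMap.BilinForm.toDual (sympBilin 4 F) sympBilin_nondegenerate).symm l, fun w => ?_⟩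
  have h3 : ω ((LinearMap.BilinForm.toDual (sympBilin 4 F) sympBilin_nondegenerate).symm l) w = s (Q' w - Q0 w) :=
    LinearMap.BilinForm.apply_toDual_symm_apply (B := sympBilin 4 F) (hB := sympBilin_nondegenerate) l w
  rw [ω_symm, h3, h1]
  ring

theorem toPSp_inj : Function.Injective (toPSp (m := 4) (F := F)) := by
  rw [injective_iff_map_eq_one]
  intro g hg
  obtain ⟨a, ha, h⟩ := exists_smul_of_toPSp_eq_one hg
  have h1 : a = 1 := by
    rcases sq_eq_one_iff.1 ha with h2 | h2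
    · exact h2
    · rw [h2, CharTwo.neg_eq]
  exact Subtype.ext (LinearEquiv.ext fun v => by rw [h, h1, one_smul]; rfl)

/-- `S` is `PSp₈` -/
noncomputable def eP (F : Type) [Field F] [CharP F 2] [Fintype F] : S F ≃* PSp 4 F :=
  MulEquiv.ofBijective toPSp ⟨toPSp_inj, toPSp_surjective⟩

open SympAutSemi in
/-- **Automorphisms.** -/
theorem exists_aut (φ : MulAut (S F)) : ∃ g : S F, ∀ h : S F,
    (g * φ h * g⁻¹ ∈ St F ↔ h ∈ St F) ∧ (g * φ h * g⁻¹ ∈ O F ↔ h ∈ O F) ∧ (g * φ h * g⁻¹ ∈ E F ↔ h ∈ E F) := by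
  let α : MulAut (PSp 4 F) := ((eP F).symm.trans φ).trans (eP F)
  obtain ⟨γ, hγ⟩ := SympAutExists.exists_semi (by norm_num) α (SympAutOddA.recog (by norm_num) (Or.inl (by norm_num)) α)
  have h1 : ∀ (h : S F) w, (φ h).1 (γ.1 w) = γ.1 (h.1 w) := by
    intro h w
    obtain ⟨k, hk⟩ := toSp_surjective (conjHom 4 F γ (toSp h))
    have h2 : toPSp k = toPSp (φ h) := by
      have h3 : α (eP F h) = eP F (φ h) := by simp [α]
      rw [← hγ] at h3
      exact (congrArg _ hk).trans h3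
    have h3 := DFunLike.congr_fun (rho_conjHom γ (toSp h)) (γ.1 w)
    rw [← hk, toPSp_inj h2, rho_apply, toSp_mulVec, Equiv.Perm.mul_apply, Equiv.Perm.mul_apply, perm_inv_apply_self,
      rho_apply, toSp_mulVec] at h3
    exact h3
  obtain ⟨γ, τ, l, hl, hs⟩ := γ
  have hi := hs.inv hl
  have hi0 : γ⁻¹ 0 = 0 := by simpa using hi.2.1 0 0
  let Φ : PQ.Mk.Fm false F (Nm F) := ⟨sympBilin 4 F, 0, sympBilin_nondegenerate, fun _ => ⟨sympBilin_isAlt, rfl⟩, nofun⟩
  let L : Submodule F (Nm F) :=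
    { carrier := {w | γ⁻¹ w ∈ L0 F}
      zero_mem' := by rw [Set.mem_ofPred_eq, hi0]; exact zero_mem _
      add_mem' := fun {a b} ha hb => by rw [Set.mem_ofPred_eq, hi.1]; exact add_mem ha hb
      smul_mem' := fun c a ha => by rw [Set.mem_ofPred_eq, hi.2.1]; exact Submodule.smul_mem _ _ ha }
  have hb0 : ∀ x ∈ L0 F, ∀ y ∈ L0 F, ω x y = 0 := fun x hx y hy => by
    have h3 := Q0_add x y
    rwa [Q0_L0 hx, Q0_L0 hy, Q0_L0 (add_mem hx hy), zero_add, zero_add, eq_comm] at h3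
  have hL0 : PQ.G4.IsLag Φ (L0 F) := ⟨hb0, fun _ _ => rfl, by rw [fr_L0, fr_N]⟩
  have hL : PQ.G4.IsLag Φ L := ⟨fun x hx y hy => by
    have h3 := hs.2.2 (γ⁻¹ x) (γ⁻¹ y)
    rwa [perm_apply_inv_self, perm_apply_inv_self, hb0 _ hx _ hy, map_zero, mul_zero] at h3, fun _ _ => rfl,
    by rw [fr_eq (A := L) (B := L0 F) γ⁻¹ fun _ => Iff.rfl, fr_L0, fr_N]⟩
  obtain ⟨g0, hg0⟩ := hL.trans hL0
  let g1 : S F := ⟨g0.1, g0.2.1⟩
  have h2 : ∀ w, g1.1 (γ w) ∈ L0 F ↔ w ∈ L0 F := fun w => by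
    have h3 : im g1 L = L0 F := hg0
    refine (h3 ▸ mem_im : _ ∈ L0 F ↔ _).trans ?_
    rw [inv_ap]
    change γ⁻¹ (γ w) ∈ L0 F ↔ _
    rw [perm_inv_apply_self]
  obtain ⟨b, hb⟩ := exists_b (fun w => l * τ (Q0 (γ⁻¹ (g1⁻¹.1 w)))) (fun u w => by
    have h3 := hs.2.2 (γ⁻¹ (g1⁻¹.1 u)) (γ⁻¹ (g1⁻¹.1 w))
    rw [perm_apply_inv_self, perm_apply_inv_self, iso] at h3
    rw [map_add, hi.1, Q0_add, h3, map_add, map_add]
    ring) (fun c w => by
    rw [map_smul, hi.2.1, Q0_smul, map_mul, map_pow, RingEquiv.apply_symm_apply]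
    ring)
  have hbL : b ∈ L0 F := mem_L0_of fun w hw => by
    have h3 := hb w
    have h4 : γ⁻¹ (g1⁻¹.1 w) ∈ L0 F := by rw [← h2, perm_apply_inv_self, ap_inv]; exact hw
    simp only [Q0_L0 h4, Q0_L0 hw, map_zero, mul_zero, zero_add] at h3
    rw [ω_symm]
    exact pow_eq_zero_iff two_ne_zero |>.1 h3.symm
  let g : S F := tv b 1 * g1
  let σ : Nm F ≃ Nm F := γ.trans g.1.toEquiv
  have s0 : ∀ w, σ w = g.1 (γ w) := fun _ => rfl
  have s1 : ∀ w, σ w ∈ L0 F ↔ w ∈ L0 F := fun w => by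
    rw [s0, mul_ap, tv_ap, (L0 F).add_mem_iff_left (Submodule.smul_mem _ _ hbL), h2]
  have s2 : ∀ w, Q0 (σ w) = l * τ (Q0 w) := fun w => by
    have h3 := hb (g1.1 (γ w))
    simp only [inv_ap, perm_inv_apply_self] at h3
    rw [s0, mul_ap, Q0_tv, Q0_L0 hbL, h3]
    ring
  have s3 : ∀ (h : S F) w, (g * φ h * g⁻¹).1 (σ w) = σ (h.1 w) := fun h w => by
    rw [s0, s0, mul_ap, mul_ap, inv_ap]
    exact congrArg _ (h1 h w)
  refine ⟨g, fun h => ?_⟩
  have a2 : g * φ h * g⁻¹ ∈ O F ↔ h ∈ O F := by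
    refine σ.surjective.forall.trans (forall_congr' fun w => ?_)
    rw [s3, s2, s2, mul_right_inj' hl, τ.injective.eq_iff]
  refine ⟨σ.surjective.forall.trans (forall_congr' fun w => by rw [s3, s1, s1]), a2, and_congr a2 ?_⟩
  rw [par, par, ← fr_eq (A := L0 F ⊓ im h (L0 F)) σ fun w => ?_]
  have e : (g * φ h * g⁻¹)⁻¹ = g * φ h⁻¹ * g⁻¹ := by rw [map_inv]; group
  rw [Submodule.mem_inf, Submodule.mem_inf, mem_im, mem_im, e, s3, s1, s1]

/-- **A non-trivial subgroup of `E` is not primitive.** -/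
theorem not_prm {A : Subgroup (S F)} (hA : A ≤ E F) (h0 : A ≠ ⊥) : ¬ Prm A := by
  intro hP
  by_cases hb : ∃ b : Nm F, b ≠ 0 ∧ ∀ a ∈ A, a.1 b = b
  · obtain ⟨b, hb0, hb⟩ := hb
    rcases hP (Subgroup.normalizer (A : Set (S F))) Subgroup.le_normalizer
      (fun φ hφ => by rw [Subgroup.map_equiv_normalizer_eq, hφ]) with h | h
    · have h1 : ∀ c, tv b c ∈ E F := fun c => by
        refine hA (h ▸ Subgroup.centralizer_le_normalizer _ fun a ha => Subtype.ext (LinearEquiv.ext fun w => ?_))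
        change a.1 ((tv b c).1 w) = (tv b c).1 (a.1 w)
        rw [tv_ap, tv_ap, map_add, map_smul, ← iso a w b, hb a ha]
      by_cases hq : Q0 b = 0
      · exact tv_O hb0 hq (h1 1).1
      · exact refl_E hq (h1 _)
    · have hn := Subgroup.normalizer_eq_top_iff.1 h
      refine h0 (eq_bot_iff.2 fun a ha => Subtype.ext (LinearEquiv.ext fun w => ?_))
      have h1 : ∀ u, ω b u ≠ 0 → a.1 u = u := fun u hu => by
        have h2 := congrArg (tv u 1).1 (hb _ (hn.conj_mem' a ha (tv u 1)))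
        rw [mul_ap, mul_ap, ap_inv, tv_ap, map_add, map_smul, hb a ha, add_right_inj, one_mul] at h2
        exact smul_right_injective _ hu h2
      change a.1 w = w
      by_cases hw : ω b w = 0
      · obtain ⟨u, hu⟩ : ∃ u, ω b u ≠ 0 := by
          by_contra hc
          push Not at hc
          exact hb0 (eq_zero_of_forall_sympForm_right hc)
        have h2 := h1 (w + u) (by rwa [sympForm_add_right, hw, zero_add])
        rwa [map_add, h1 u hu, add_left_inj] at h2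
      · exact h1 w hw
  · push Not at hb
    refine (hP (O F) (hA.trans E_le) (fun φ hφ => ?_)).elim (fun h => ?_) fun h => ?_
    rotate_left
    · obtain ⟨t, ht, ht'⟩ := exists_refl (F := F)
      exact ht' (hA (h ▸ ht))
    · refine tv_O (F := F) (b := Pi.single (.inr 0) 1) (by simp) (Q0_L0 (mem_L0.2 fun j => Pi.single_eq_of_ne (by simp) _)) ?_
      rw [h]
      trivial
    · obtain ⟨g, hg⟩ := exists_aut φ
      obtain ⟨b, hb'⟩ := exists_b (fun w => Q0 (g.1 w)) (fun u w => by rw [map_add, Q0_add, iso])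
        (fun c w => by rw [map_smul, Q0_smul])
      have h1 : b = 0 := by
        by_contra h1
        obtain ⟨a, ha, h2⟩ := hb b h1
        have ha' := inv_mem ha
        refine h2 (eq_of_forall_sympForm_left fun w => ?_)
        have h3 : a⁻¹ ∈ A.map φ.toMonoidHom := hφ.symm ▸ ha'
        obtain ⟨a', h4, h5⟩ := h3
        have h6 := (hg a').2.1.2 (hA h4).1 (g.1 w)
        rw [show φ a' = a⁻¹ from h5, mul_ap, mul_ap, inv_ap] at h6
        have h7 := hb' (a⁻¹.1 w)
        have h8 := hb' w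
        rw [h6, h8, (hA ha').1 w, add_right_inj, ← iso a (a⁻¹.1 w), ap_inv] at h7
        rcases sq_eq_sq_iff_eq_or_eq_neg.1 h7 with h9 | h9
        · exact h9.symm
        · rw [h9, CharTwo.neg_eq]
      have h2 : g ∈ O F := fun w => by
        have h3 := hb' w
        rw [h3, h1, sympForm_zero_right]
        ring
      have h3 : ∀ h, φ h ∈ O F ↔ h ∈ O F := fun h => by
        rw [← (hg h).2.1, (O F).mul_mem_cancel_right (inv_mem h2), (O F).mul_mem_cancel_left h2]
      ext k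
      rw [Subgroup.mem_map_equiv, ← h3, MulEquiv.apply_symm_apply]

end Cfsg.Agent.SM.CS.Be
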