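import Cfsg.Agent.SM.CSe.Geo
import Cfsg.Agent.SM.Ti.Cell
import Cfsg.Agent.H749.PF.Flags
import Cfsg.Agent.H650.Ppd.Count
import Cfsg.Agent.H905.MdL
import Cfsg.Agent.KFacts.RgdAut
import Cfsg.Agent.H631.VZ.Ell

/-!
# SM (S3570), box CS-Be: the points of the Lagrangian subspaces (helper84)

**`exists_spin`** : the fixed point of a Sylow `2`-subgroup has the stabiliser of a Lagrangian, and two points of its orbit are
perpendicular unless the Lagrangians are opposite.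
-/

set_option autoImplicit false
set_option linter.unusedSectionVars false

namespace Cfsg.Agent.SM.CS.Be

open CoxeterSystem Cfsg.Agent.ChevalleyStructure.CoxeterGeom Cfsg.Agent.Tits.Roots Cfsg.Agent.Tits.Core
  Cfsg.Agent.Tits.Exchange Cfsg.Agent.Nodes.Reps Cfsg.Agent.Nodes.BNOf
  Cfsg.Agent.Nodes.Bruhat Cfsg.Agent.Nodes.OppDec Cfsg.Agent.Nodes.LeviDec Cfsg.Agent.H905.Md Cfsg.Agent.H156.Ppd
open Cfsg.Agent.Nodes Cfsg.Agent.Nodes.TypeC Cfsg.Agent.Nodes.WittAll Cfsg.Agent.Nodes.WittRoot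
open Cfsg.Agent.TitsThree.SpIdent Cfsg.Agent.SM.Ti Cfsg.Agent.H915.LD Cfsg.Agent.H905.DC
open Cfsg Cfsg.Geo Module
open scoped LinearAlgebra.Projectivization

variable {F : Type} [Field F] {n : ℕ} {K : Type} [Field K]

/-- the point of the Lagrangian `L0` -/
structure Spin (B : (Fin n → K) → (Fin n → K) → K) (ρ : S F →* GL (Fin n) K) (x : Fin n → K) : Prop where
  ne : x ≠ 0
  fix : ∀ g ∈ St F, ∃ c : K, c • x = ap (ρ g) x
  uniq : ∀ z, (∀ g ∈ St F, ∃ c : K, c • z = ap (ρ g) z) → ∃ c : K, z = c • x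
  opp : ∀ g, B (ap (ρ g) x) x ≠ 0 → L0 F ⊓ im g (L0 F) = ⊥
  ex : ∃ k, im k (L0 F) = L1 F ∧ B (ap (ρ k) x) x ≠ 0

theorem ker_eq {α β : Type} [Fintype α] [DecidableEq α] [Fintype β] [DecidableEq β] (e : α ⊕ β ≃ Fin 4 ⊕ Fin 4)
    (L : Submodule F (Nm F)) (h : ∀ w, w ∈ L ↔ ∀ i, w (e (.inl i)) = 0) :
    L = Submodule.span F (Set.range fun i : β => (Pi.single (e (.inr i)) 1 : Nm F)) := by
  apply le_antisymm
  · intro w hw
    rw [pi_eq_sum_univ' w]
    refine Submodule.sum_mem _ fun j _ => ?_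
    obtain ⟨i | i, rfl⟩ := e.surjective j
    · rw [(h w).1 hw i, zero_smul]
      exact zero_mem _
    · exact Submodule.smul_mem _ _ (Submodule.subset_span ⟨i, rfl⟩)
  · rw [Submodule.span_le]
    rintro _ ⟨i, rfl⟩
    exact (h _).2 fun j => Pi.single_eq_of_ne (by simp) _

theorem L0_eq : L0 F = Submodule.span F (Set.range (e 4 F)) := ker_eq (Equiv.refl _) _ fun _ => mem_L0

theorem L1_eq : L1 F = Submodule.span F (Set.range (f 4 F)) := ker_eq (Equiv.sumComm _ _) _ fun _ => mem_L1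

theorem im_mono {k : S F} (h : Mono (frame 4 F) k.1 ng) : im k (L0 F) = L1 F := by
  rw [L0_eq, L1_eq, im, Submodule.map_span]
  apply le_antisymm
  · rw [Submodule.span_le]
    rintro _ ⟨_, ⟨i, rfl⟩, rfl⟩
    obtain ⟨l, -, hl⟩ := h (i, true)
    exact (show k.1 (e 4 F i) = l • f 4 F i from hl) ▸ Submodule.smul_mem _ _ (Submodule.subset_span ⟨i, rfl⟩)
  · rw [Submodule.span_le]
    rintro _ ⟨i, rfl⟩
    obtain ⟨l, h0, hl⟩ := h (i, true)
    refine (Submodule.smul_mem_iff _ h0).1 ?_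
    exact (show k.1 (e 4 F i) = l • f 4 F i from hl) ▸ Submodule.subset_span ⟨_, ⟨i, rfl⟩, rfl⟩

theorem im_St {g : S F} (hg : g ∈ St F) : im g (L0 F) = L0 F := Submodule.ext fun w => mem_im.trans (inv_mem hg w)

theorem im_mul (g h : S F) (L : Submodule F (Nm F)) : im (g * h) L = im g (im h L) :=
  Submodule.ext fun w => by simp only [mem_im, mul_inv_rev, mul_ap]

theorem L0_inf : L0 F ⊓ L1 F = ⊥ := by
  rw [eq_bot_iff]
  rintro u ⟨h4, h5⟩
  refine funext fun j => ?_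
  rcases j with i | i
  · exact mem_L0.1 h4 i
  · exact mem_L1.1 h5 i

/-- the Cartan matrix -/
def mA (i j : Fin 4) : ℤ :=
  if i = j then 2 else if (i : ℕ) + 1 = j then (if (j : ℕ) + 1 < 4 then -1 else -2) else if (j : ℕ) + 1 = i then -1 else 0

theorem mA_eq : TypeC.A 4 = mA := funext fun i => funext fun j => A_apply i j

section nodes

variable {W Y : Type*} [Group W] [Group Y] {cs : CoxeterSystem (CoxeterMatrix.B 4) W} {p : ℕ} {T : Subgroup Y} {nn : Fin 4 → Y}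
  {X : (Fin 4 → ℤ) → Subgroup Y} {k V : Type*} [Field k] [AddCommGroup V] [Module k V] {A : Fin 4 → Fin 4 → ℤ}
  {h : IsCartan (CoxeterMatrix.B 4) A}

theorem nodes (hA : A = mA) (R : RGD cs h p T nn X) [Finite Y] [Finite W] [Fact p.Prime] [CharP k p] {ρ : Y →* Module.End k V}
    [FiniteDimensional k V] [Nontrivial V] (hirr : ∀ L : Submodule k V, Omega.CR.Ivt ρ (GG cs h T X) L → L = ⊥ ∨ L = ⊤)
    (hD : 1 ≤ finrank k (D cs h X ρ)) (hV : finrank k V ≤ 16) :
    1 ∈ Jx cs h X ρ ∧ 2 ∈ Jx cs h X ρ ∧ (0 ∈ Jx cs h X ρ ∨ 3 ∈ Jx cs h X ρ) := by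
  subst hA
  have key : ∀ m, 17 * finrank k (D cs h X ρ) + m ≤ finrank k V → False := fun m hm => by omega
  refine ⟨by_contra fun h1 => ?_, by_contra fun h1 => ?_, by_contra fun h1 => ?_⟩
  · exact key _ <| H650.Ppd.dim_ge_list R hirr h1 [[], [1], [1, 0], [1, 2], [1, 0, 2], [1, 2, 3], [1, 0, 2, 1], [1, 0, 2, 3], [1, 2, 3, 2],
      [1, 0, 2, 1, 3], [1, 0, 2, 3, 2], [1, 2, 3, 2, 1], [1, 0, 2, 1, 3, 2], [1, 0, 2, 3, 2, 1], [1, 2, 3, 2, 1, 0],
      [1, 0, 2, 1, 3, 2, 1], [1, 0, 2, 1, 3, 2, 3]] [] (by decide +kernel) (by simp)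
  · exact key _ <| H650.Ppd.dim_ge_list R hirr h1 [[], [2], [2, 1], [2, 3], [2, 1, 0], [2, 1, 3], [2, 3, 2], [2, 1, 0, 3], [2, 1, 3, 2],
      [2, 3, 2, 1], [2, 1, 0, 3, 2], [2, 1, 3, 2, 1], [2, 1, 3, 2, 3], [2, 3, 2, 1, 0], [2, 1, 0, 3, 2, 1], [2, 1, 0, 3, 2, 3],
      [2, 1, 3, 2, 1, 0]] [] (by decide +kernel) (by simp)
  · exact key _ <| H650.Ppd.dim_ge_list_two R hirr (not_or.1 h1).1 (not_or.1 h1).2 (by decide) [[], [0], [3], [0, 1], [0, 3], [3, 2],
      [0, 1, 2], [0, 1, 3], [0, 3, 2], [3, 2, 1], [3, 2, 3], [0, 1, 2, 3], [0, 1, 3, 2], [0, 3, 2, 1], [0, 3, 2, 3], [3, 2, 1, 0],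
      [3, 2, 1, 3]] [] [] (by decide +kernel) (by simp) (by simp)

end nodes

variable [Fintype F] [CharP F 2] [Fintype K] [CharP K 2]

theorem exists_spin {B : (Fin n → K) → (Fin n → K) → K} {Sg : (Fin n → K) → Prop} {G P : Subgroup (GL (Fin n) K)}
    (h : Tc 8 P) (hB : Pol B Sg G) (hS : Sing Sg G) (hPG : P ≤ G) (hn : n = 16) (hq : Fintype.card F = Fintype.card K)
    {ρ : S F →* GL (Fin n) K} (hρ : ρ.range = P) : ∃ x, Sg x ∧ Spin B ρ x := by
  let cs := (CoxeterMatrix.B 4).toCoxeterSystem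
  have : Finite (CoxeterMatrix.B 4).Group := finite_W cs
  have : Finite (S F) := H62.SpCross.finite_isos
  let M := H62.SpCross.model 4 F
  have hA : AmbT (frame 4 F) 2 M.I := AmbT.of_amb (KFacts.Mult.SpTwo.amb 4 F) 2
  have hp0 : (adm 1 : (frame 4 F).Adm).c ≠ 0 := one_ne_zero
  have R := rgdC_model M hA hp0 cs
  have hG := H749.PF.GG_eq_top M cs (by norm_num)
  have hT := modelT_comm hA kd_sp
  have hC := h.core
  have hne : Nonempty (Fin n) := hC.nonempty
  obtain ⟨x, k, hx0, hxS, hxD, hD, hk, hk0, hst, hnp, -⟩ := cell hC hB hS hPG R hG hT hρ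
  obtain ⟨⟨s, hs, hidx⟩, -, -⟩ := h.big R hG hT hρ
  rw [H69.Ppd.Jx_eq R hG hT hρ hC.absIrred] at hidx
  have hirr := H69.Ppd.lrep_irr (T := WittModel.T M) (X := WittModel.X M) (h := isCartan 4) (cs := cs) hG hρ hC.absIrred
  obtain ⟨j1, j2, j3⟩ := nodes mA_eq R hirr
    (Nat.one_le_iff_ne_zero.2 fun e => hx0 ((Submodule.mem_bot K).1 (Submodule.finrank_eq_zero.1 e ▸ hxD)))
    (by rw [Module.finrank_fin_fun, hn])
  set J := Jx cs (isCartan 4) (WittModel.X M) (lrep ρ) with hJ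
  have hF := H749.PF.StF_eq_PJ M hA hp0 cs (by norm_num)
  have j4 : 3 ∉ J := by
    intro j4
    have he : e 4 F 0 ≠ 0 := by simp [e]
    have h1 : MulAction.stabilizer (S F) (Projectivization.mk F (e 4 F 0) he) ≤ PJ cs (isCartan 4) (WittModel.T M) (WittModel.X M) J := by
      refine le_trans ?_ (H631.VZ.PJ_mono (H439.CC.JB {1} ()) J fun i hi => ?_)
      · rw [← hF]
        intro g hg
        refine (H749.PF.phi_mem_StF M (g := g)).2 fun i hi => ?_
        obtain rfl : i = 0 := Fin.ext (by simpa using hi)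
        have hg' : g.1 • Projectivization.mk F (e 4 F 0) he = Projectivization.mk F (e 4 F 0) he := hg
        rw [Projectivization.smul_mk, Projectivization.mk_eq_mk_iff'] at hg'
        obtain ⟨c, hc⟩ := hg'
        refine H769.OZ.mem_StE_of_finite fun v hv => ?_
        have h2 : H769.OZ.E (frame 4 F) 0 true = Submodule.span F {e 4 F 0} := by
          unfold H769.OZ.E
          congr 1
          ext w
          exact ⟨by rintro ⟨i, hi, rfl⟩; rw [le_zero_iff.1 hi]; rfl, by rintro rfl; exact ⟨0, le_rfl, rfl⟩⟩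
        rw [h2, Submodule.mem_span_singleton] at hv ⊢
        obtain ⟨d, rfl⟩ := hv
        exact ⟨d * c, by rw [map_smul, mul_smul, hc]; rfl⟩
      · have h2 : (i : ℕ) + 1 ∉ ({1} : Finset ℕ) := hi
        have h3 : i = 1 ∨ i = 2 ∨ i = 3 := by
          rw [Finset.mem_singleton] at h2
          omega
        rcases h3 with rfl | rfl | rfl <;> assumption
    have h2 := Subgroup.index_antitone h1
    rw [hidx, MulAction.index_stabilizer] at h2
    have h3 := h2.trans (Set.ncard_le_card _)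
    rw [Projectivization.card_of_finrank F _ fr_N, Nat.card_eq_fintype_card, Nat.card_eq_fintype_card, hq] at h3
    have h4 := th_pos (Fintype.card K) (m := 8) (by norm_num)
    have h5 : 0 < 2 ^ s := by positivity
    change _ ≤ th _ 8 at h3
    nlinarith
  have hJ' : J = H439.CC.JB {4} () := by
    ext i
    change _ ↔ (i : ℕ) + 1 ∉ ({4} : Finset ℕ)
    have j0 := j3.resolve_right j4
    fin_cases i
    · exact iff_of_true j0 (by decide)
    · exact iff_of_true j1 (by decide)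
    · exact iff_of_true j2 (by decide)
    · exact iff_of_false j4 (by decide)
  have hSt : PJ cs (isCartan 4) (WittModel.T M) (WittModel.X M) J = St F := by
    have h2 : H769.OZ.E (frame 4 F) 3 true = L0 F := by
      rw [L0_eq]
      unfold H769.OZ.E
      congr 1
      ext w
      exact ⟨by rintro ⟨i, -, rfl⟩; exact ⟨i, rfl⟩, by rintro ⟨i, rfl⟩; exact ⟨i, Fin.le_last i, rfl⟩⟩
    rw [hJ', ← hF]
    ext g
    refine (H749.PF.phi_mem_StF M (g := g)).trans ⟨fun h1 => ?_, fun h1 i hi => ?_⟩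
    · have h3 := h1 3 (by decide)
      rwa [h2] at h3
    · obtain rfl : i = 3 := Fin.ext (by simpa using hi)
      rw [h2]
      exact h1
  rw [hSt] at hst
  have hBS : RGD.B cs (isCartan 4) (WittModel.T M) (WittModel.X M) ≤ St F := hSt ▸ B_le_PJ
  have hk1 : im k⁻¹ (L0 F) = L1 F := by
    obtain ⟨v, hv, g, hg, h1, h2⟩ := exists_neg M hA hp0 (cs := cs) R.nsys
    obtain rfl : v = w0 cs := by
      rw [← inv_inj, w0_inv]
      refine KFacts.RgdAut.eq_w0 R fun r _ hr => ?_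
      rw [inv_inv, hv]
      exact neg_nonpos.2 hr
    have h3 := hk.inv
    rw [w0_inv] at h3
    have h4 : (⟨g, hg⟩ : S F)⁻¹ * k⁻¹ ∈ St F := hBS ((le_sup_left : WittModel.T M ≤ _) (h1.unique h3))
    rw [← mul_inv_cancel_left (⟨g, hg⟩ : S F) k⁻¹, im_mul, im_St h4, im_mono h2]
  refine ⟨x, hxS, hx0, fun g hg => (hst g).1 hg, fun z hz => hD z fun u hu => ?_, fun g hg => ?_, k⁻¹, hk1, hk0⟩
  · obtain ⟨c, hc⟩ := hz u (hBS (RGD.U_le_B hu))
    obtain ⟨a, ha⟩ := R.isPGroup_Upos ⟨u, hu⟩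
    have h1 : ∀ j : ℕ, c ^ j • z = ap (ρ (u ^ j)) z := fun j => by
      induction j with
      | zero => rw [pow_zero, pow_zero, map_one, ap_one, one_smul]
      | succ j ih => rw [pow_succ u, map_mul, ap_mul, ← hc, ap_smul, ← ih, smul_smul, pow_succ']
    have h2 := h1 (2 ^ a)
    rw [show u ^ 2 ^ a = 1 from congrArg Subtype.val ha, map_one, ap_one] at h2
    have h3 : (c - 1) ^ 2 ^ a • z = 0 := by rw [sub_pow_char_pow, one_pow, sub_smul, h2, one_smul, sub_self]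
    rw [H69.Ppd.lrep_apply]
    change ap (ρ u) z = z
    rcases smul_eq_zero.1 h3 with h4 | h4
    · rw [← hc, sub_eq_zero.1 (pow_eq_zero_iff (by positivity) |>.1 h4), one_smul]
    · rw [← hc, h4, smul_zero]
  · obtain ⟨u, hu, c, -, e⟩ := (hnp g).1 hg
    have hu' := hBS (RGD.U_le_B hu)
    have h1 : (u * k⁻¹)⁻¹ * g ∈ St F := (hst _).2 ⟨c, by
      rw [map_mul, ap_mul, e, ap_smul, ← ap_mul (ρ u), ← map_mul, map_inv, ap_inv_ap]⟩
    rw [← mul_inv_cancel_left (u * k⁻¹) g, im_mul, im_St h1, im_mul, hk1, eq_bot_iff]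
    rintro w ⟨h2, h3⟩
    have h4 : u⁻¹.1 w ∈ L0 F ⊓ L1 F := ⟨(inv_mem hu' w).2 h2, mem_im.1 h3⟩
    rw [L0_inf] at h4
    exact u⁻¹.1.map_eq_zero_iff.1 h4

end Cfsg.Agent.SM.CS.Be
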